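import Mathlib
import Cfsg.Agent.S0215

/-!
Fusion of involutions in a group with an involution centralizer `Z₂ × Sym(4)` whose Sylow two-subgroup is
self-centralizing on its derived subgroup.
-/

set_option autoImplicit false

namespace CfsgLib.SixByInvolution

open Equiv Equiv.Perm

universe u

abbrev K : Type := Multiplicative (ZMod 2) × Perm (Fin 4)

def τ : K := (Multiplicative.ofAdd 1, 1)
def z0 : Perm (Fin 4) := swap 0 1 * swap 2 3
def a0 : Perm (Fin 4) := swap 0 1
def a1 : Perm (Fin 4) := swap 2 3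
def b0 : Perm (Fin 4) := swap 0 2 * swap 1 3

def zK : K := (1, z0)
def uK : K := τ * zK
def aK : K := (1, a0)

/-- The class of an element: `0` no involution, `1` as `t`, `2` as `z`, `3` as `tz`. -/
def cls (x : K) : ℕ :=
  if x * x ≠ 1 ∨ x = 1 then 0
  else if x.2 = 1 then 1
  else if Perm.sign x.2 = -1 then (if x.1 = 1 then 1 else 2)
  else (if x.1 = 1 then 2 else 3)

/-- The twist exchanging the two classes of transpositions. -/
def twist : K ≃* K where
  toFun x := (if Perm.sign x.2 = -1 then τ.1 * x.1 else x.1, x.2)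
  invFun x := (if Perm.sign x.2 = -1 then τ.1 * x.1 else x.1, x.2)
  left_inv := by decide +kernel
  right_inv := by decide +kernel
  map_mul' := by decide +kernel

theorem twist_facts : twist τ = τ ∧ twist zK = zK ∧ twist aK = τ * aK := by decide +kernel

theorem central_unique : ∀ x : K, x ≠ 1 → (∀ y : K, x * y = y * x) → x = τ := by decide +kernel

theorem central_tau : ∀ y : K, τ * y = y * τ := by decide +kernel

theorem pow_twelve : ∀ x : K, x ^ 12 = 1 := by decide +kernel

theorem reps : ∀ x : K, x * x = 1 → x ≠ 1 → ∃ k : K, k * x * k⁻¹ = τ ∨ k * x * k⁻¹ = aK ∨ k * x * k⁻¹ = τ * aK ∨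
    k * x * k⁻¹ = zK ∨ k * x * k⁻¹ = uK := by
  decide +kernel

theorem derived_pairs : ∀ x y : K, x * zK = zK * x → y * zK = zK * y →
    x * y * x⁻¹ * y⁻¹ = 1 ∨ x * y * x⁻¹ * y⁻¹ = zK := by
  decide +kernel

theorem z_commutator : aK * (1, b0) * aK⁻¹ * ((1, b0) : K)⁻¹ = zK := by decide +kernel

theorem card_T0 : Nat.card {x : K // x * zK = zK * x} = 16 := by
  rw [Nat.card_eq_fintype_card]; decide +kernel

theorem card_K : Nat.card K = 48 := by
  rw [Nat.card_eq_fintype_card]; decide +kernel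

theorem small_facts : zK ^ 2 = 1 ∧ zK * zK = 1 ∧ τ ^ 2 = 1 ∧ τ ≠ 1 ∧ zK ≠ 1 ∧ ((1, b0) : K) * (1, b0) = 1 ∧
    ((1, b0) : K) * zK * ((1, b0) * zK) = 1 ∧ ((1, b0) : K) * zK = zK * (1, b0) ∧
    ((1, swap 1 2) : K) * zK * (1, swap 1 2)⁻¹ = (1, b0) ∧
    ((1, swap 1 3) : K) * zK * (1, swap 1 3)⁻¹ = (1, b0) * zK := by
  decide +kernel

theorem b0_comm_z : ((1, b0) : K) * zK = zK * (1, b0) ∧ aK * zK = zK * aK := by decide +kernel

variable {G : Type u} [Group G]

/-- An involution centralizer presented as `Z₂ × Sym(4)`. -/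
structure Data (G : Type u) [Group G] where
  φ : K →* G
  inj : Function.Injective φ
  range : ∀ g : G, g * φ τ = φ τ * g → ∃ k, φ k = g
  sylCard : ∀ S : Sylow 2 G, Nat.card (S : Subgroup G) = 16
  selfC : ∀ S : Sylow 2 G,
    Subgroup.centralizer ((⁅(S : Subgroup G), (S : Subgroup G)⁆ : Subgroup G) : Set G) = (S : Subgroup G)

variable (D : Data G)

/-- The same centralizer in twisted coordinates. -/
def Data.twist : Data G where
  φ := D.φ.comp SixByInvolution.twist.toMonoidHom
  inj := D.inj.comp SixByInvolution.twist.injective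
  range g hg := by
    simp only [MonoidHom.comp_apply, MulEquiv.coe_toMonoidHom, twist_facts.1] at hg
    obtain ⟨k, hk⟩ := D.range g hg
    exact ⟨SixByInvolution.twist.symm k, by simp [hk]⟩
  sylCard := D.sylCard
  selfC := D.selfC

def Data.T0 : Subgroup G := (Subgroup.centralizer ({zK} : Set K)).map D.φ

theorem mem_T0 {g : G} : g ∈ D.T0 ↔ ∃ k : K, k * zK = zK * k ∧ D.φ k = g := by
  simp only [Data.T0, Subgroup.mem_map, Subgroup.mem_centralizer_singleton_iff]

theorem card_T0G : Nat.card D.T0 = 16 := by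
  rw [Data.T0, Subgroup.card_map_of_injective D.inj, ← card_T0]
  exact Nat.card_congr (Equiv.subtypeEquivRight fun x => Subgroup.mem_centralizer_singleton_iff)

variable [Finite G]

theorem exists_T : ∃ S : Sylow 2 G, (S : Subgroup G) = D.T0 := by
  haveI := Fact.mk Nat.prime_two
  have hp : IsPGroup 2 D.T0 := IsPGroup.of_card (n := 4) (by rw [card_T0G]; norm_num)
  obtain ⟨S, hS⟩ := hp.exists_le_sylow
  exact ⟨S, (Subgroup.eq_of_le_of_card_ge hS (by rw [D.sylCard, card_T0G])).symm⟩

theorem cz (g : G) : g * D.φ zK = D.φ zK * g ↔ g ∈ D.T0 := by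
  constructor
  · intro h
    obtain ⟨S, hS⟩ := exists_T D
    rw [← hS, ← D.selfC S, Subgroup.mem_centralizer_iff]
    intro x hx
    have hle : ⁅(S : Subgroup G), (S : Subgroup G)⁆ ≤ Subgroup.centralizer ({g} : Set G) := by
      rw [Subgroup.commutator_le]
      intro p hp q hq
      rw [hS, mem_T0] at hp hq
      obtain ⟨x, hx, rfl⟩ := hp
      obtain ⟨y, hy, rfl⟩ := hq
      rw [Subgroup.mem_centralizer_singleton_iff, commutatorElement_def, ← map_inv, ← map_inv, ← map_mul,
        ← map_mul, ← map_mul]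
      rcases derived_pairs x y hx hy with e | e
      · rw [e, map_one, one_mul, mul_one]
      · rw [e, h]
    exact Subgroup.mem_centralizer_singleton_iff.1 (hle hx)
  · intro h
    obtain ⟨k, hk, rfl⟩ := (mem_T0 D).1 h
    rw [← map_mul, hk, map_mul]

theorem phi_commute {x y : K} : D.φ x * D.φ y = D.φ y * D.φ x ↔ x * y = y * x := by
  rw [← map_mul, ← map_mul]
  exact D.inj.eq_iff

theorem centralizer_t : Subgroup.centralizer ({D.φ τ} : Set G) = D.φ.range := by
  ext g
  rw [Subgroup.mem_centralizer_singleton_iff, MonoidHom.mem_range]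
  constructor
  · exact D.range g
  · rintro ⟨k, rfl⟩
    exact (phi_commute D).2 (central_tau k).symm

theorem card_centralizer_t : Nat.card (Subgroup.centralizer ({D.φ τ} : Set G)) = 48 := by
  rw [centralizer_t, ← Nat.card_congr (MonoidHom.ofInjective D.inj).toEquiv, card_K]

theorem centralizer_z : Subgroup.centralizer ({D.φ zK} : Set G) = D.T0 := by
  ext g
  rw [Subgroup.mem_centralizer_singleton_iff, cz]

theorem card_centralizer_z : Nat.card (Subgroup.centralizer ({D.φ zK} : Set G)) = 16 := by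
  rw [centralizer_z, card_T0G]

omit [Finite G] in
theorem card_centralizer_congr {x y : G} (h : IsConj x y) :
    Nat.card (Subgroup.centralizer ({x} : Set G)) = Nat.card (Subgroup.centralizer ({y} : Set G)) := by
  obtain ⟨c, rfl⟩ := isConj_iff.1 h
  refine Nat.card_congr ((MulAut.conj c).toEquiv.subtypeEquiv fun g => ?_)
  simp only [Subgroup.mem_centralizer_singleton_iff]
  show _ ↔ c * g * c⁻¹ * (c * x * c⁻¹) = c * x * c⁻¹ * (c * g * c⁻¹)
  constructor
  · intro h'
    calc c * g * c⁻¹ * (c * x * c⁻¹) = c * (g * x) * c⁻¹ := by group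
      _ = c * x * c⁻¹ * (c * g * c⁻¹) := by rw [h']; group
  · intro h'
    calc g * x = c⁻¹ * (c * g * c⁻¹ * (c * x * c⁻¹)) * c := by group
      _ = x * g := by rw [h']; group

theorem T0_le_centralizer_central {x : K} (hx : ∀ k : K, k * zK = zK * k → k * x = x * k) :
    D.φ x ∈ Subgroup.centralizer (D.T0 : Set G) := by
  rw [Subgroup.mem_centralizer_iff]
  intro g hg
  obtain ⟨k, hk, rfl⟩ := (mem_T0 D).1 hg
  exact (phi_commute D).2 (hx k hk)

/-- Central elements of the Sylow two-subgroup are conjugate only when equal. -/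
theorem central_conj {x y : K} (hx : ∀ k : K, k * zK = zK * k → k * x = x * k)
    (hy : ∀ k : K, k * zK = zK * k → k * y = y * k) (h : IsConj (D.φ x) (D.φ y)) : x = y := by
  haveI := Fact.mk Nat.prime_two
  obtain ⟨S, hS⟩ := exists_T D
  obtain ⟨c, hc⟩ := isConj_iff.1 h
  have hxS : D.φ x ∈ Subgroup.centralizer ((S : Subgroup G) : Set G) := hS ▸ T0_le_centralizer_central D hx
  have hyS : c⁻¹⁻¹ * D.φ x * c⁻¹ ∈ Subgroup.centralizer ((S : Subgroup G) : Set G) := by
    rw [inv_inv, hc]; exact hS ▸ T0_le_centralizer_central D hy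
  obtain ⟨n, hn, hne⟩ := Sylow.conj_eq_normalizer_conj_of_mem_centralizer S (D.φ x) c⁻¹ hxS hyS
  rw [inv_inv, hc] at hne
  have hnS : n ∈ D.T0 := by
    rw [← cz]
    have hz : D.φ zK ∈ ⁅(S : Subgroup G), (S : Subgroup G)⁆ := by
      rw [← z_commutator, map_mul, map_mul, map_mul, map_inv, map_inv, ← commutatorElement_def]
      refine Subgroup.commutator_mem_commutator ?_ ?_ <;> rw [hS, mem_T0]
      · exact ⟨_, b0_comm_z.2, rfl⟩
      · exact ⟨_, b0_comm_z.1, rfl⟩
    have hz' : n * D.φ zK * n⁻¹ ∈ ⁅(S : Subgroup G), (S : Subgroup G)⁆ := by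
      have h1 := Subgroup.mem_map_of_mem (MulAut.conj n).toMonoidHom hz
      rw [Subgroup.map_commutator] at h1
      have e := Subgroup.mem_normalizer_iff_map_conj_eq.1 hn
      erw [e] at h1
      exact h1
    have hle : ⁅(S : Subgroup G), (S : Subgroup G)⁆ ≤ Subgroup.zpowers (D.φ zK) := by
      rw [Subgroup.commutator_le]
      intro p hp q hq
      rw [hS, mem_T0] at hp hq
      obtain ⟨x, hx, rfl⟩ := hp
      obtain ⟨y, hy, rfl⟩ := hq
      rw [commutatorElement_def, ← map_inv, ← map_inv, ← map_mul, ← map_mul, ← map_mul]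
      rcases derived_pairs x y hx hy with e | e
      · rw [e, map_one]; exact Subgroup.one_mem _
      · rw [e]; exact Subgroup.mem_zpowers _
    obtain ⟨i, hi⟩ := Subgroup.mem_zpowers_iff.1 (hle hz')
    have h2 : D.φ zK ^ (2 : ℤ) = 1 := by
      rw [zpow_ofNat, ← map_pow, small_facts.1, map_one]
    rcases Int.even_or_odd' i with ⟨j, rfl | rfl⟩
    · rw [zpow_mul, h2, one_zpow, eq_comm, mul_inv_eq_one, mul_eq_left] at hi
      exact absurd (D.inj (hi.trans D.φ.map_one.symm)) small_facts.2.2.2.2.1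
    · rw [zpow_add, zpow_mul, h2, one_zpow, one_mul, zpow_one, eq_comm, mul_inv_eq_iff_eq_mul] at hi
      exact hi
  obtain ⟨k, hk, rfl⟩ := (mem_T0 D).1 hnS
  rw [← map_inv, ← map_mul, ← map_mul] at hne
  rw [D.inj hne, mul_assoc, ← hx k hk, inv_mul_cancel_left]

theorem not_conj_tz : ¬ IsConj (D.φ τ) (D.φ zK) := fun h => by
  have := card_centralizer_congr h
  rw [card_centralizer_t, card_centralizer_z] at this
  omega

theorem not_conj_tu : ¬ IsConj (D.φ τ) (D.φ uK) := fun h =>
  absurd (central_conj D (by decide +kernel) (by decide +kernel) h) (by decide +kernel)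

theorem not_conj_zu : ¬ IsConj (D.φ zK) (D.φ uK) := fun h =>
  absurd (central_conj D (by decide +kernel) (by decide +kernel) h) (by decide +kernel)

theorem conj_phi (k x : K) : IsConj (D.φ (k * x * k⁻¹)) (D.φ x) := by
  refine (isConj_iff.2 ⟨D.φ k, ?_⟩).symm
  rw [map_mul, map_mul, map_inv]

/-- An element conjugate to `t`, different from it and inside its centralizer fuses a transposition class. -/
theorem fused {g : G} {x : K} (hx : D.φ x = g * D.φ τ * g⁻¹) (hne : x ≠ τ) :
    IsConj (D.φ τ) (D.φ aK) ∨ IsConj (D.φ τ) (D.φ (τ * aK)) := by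
  have hc : IsConj (D.φ τ) (D.φ x) := isConj_iff.2 ⟨g, hx.symm⟩
  have h2 : x * x = 1 := by
    apply D.inj
    rw [map_mul, hx, map_one]
    calc g * D.φ τ * g⁻¹ * (g * D.φ τ * g⁻¹) = g * (D.φ τ * D.φ τ) * g⁻¹ := by group
      _ = 1 := by rw [← map_mul, show τ * τ = 1 by decide +kernel, map_one, mul_one, mul_inv_cancel]
  have h1 : x ≠ 1 := by
    rintro rfl
    rw [map_one, eq_comm, mul_inv_eq_one, mul_eq_left] at hx
    exact absurd (D.inj (hx.trans D.φ.map_one.symm)) (by decide +kernel)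
  obtain ⟨k, e | e | e | e | e⟩ := reps x h2 h1 <;> have hk := hc.trans (conj_phi D k x).symm <;> rw [e] at hk
  · exfalso
    apply hne
    calc x = k⁻¹ * (k * x * k⁻¹) * k := by group
      _ = τ := by rw [e, mul_assoc, central_tau, inv_mul_cancel_left]
  · exact Or.inl hk
  · exact Or.inr hk
  · exact absurd hk (not_conj_tz D)
  · exact absurd hk (not_conj_tu D)

/-- Without fusion the involution is central. -/
theorem central_of_isolated
    (h : ∀ (g : G) (x : K), D.φ x = g * D.φ τ * g⁻¹ → x = τ) : ∀ g : G, g * D.φ τ = D.φ τ * g := by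
  haveI := Fact.mk Nat.prime_two
  obtain ⟨S, hS⟩ := exists_T D
  have ht : orderOf (D.φ τ) = 2 := by
    rw [orderOf_injective D.φ D.inj]
    exact orderOf_eq_prime small_facts.2.2.1 small_facts.2.2.2.1
  obtain ⟨N, hN, hNodd, hNc⟩ := Cfsg.Agent.S0215.result S (D.φ τ) ht
    (by show D.φ τ ∈ (S : Subgroup G); rw [hS, mem_T0]; exact ⟨τ, central_tau zK, rfl⟩)
    (fun g hg => by
      have hg' : g * D.φ τ * g⁻¹ ∈ D.T0 := hS ▸ (show g * D.φ τ * g⁻¹ ∈ (S : Subgroup G) from hg)
      obtain ⟨x, -, hx⟩ := (mem_T0 D).1 hg'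
      rw [← hx, h g x hx])
  have hfree : ∀ z' : G, IsConj (D.φ zK) z' → ∀ n ∈ N, n * z' = z' * n → n = 1 := by
    intro z' hz' n hn hc
    have h1 : orderOf n ∣ Nat.card (Subgroup.centralizer ({z'} : Set G)) :=
      Subgroup.orderOf_dvd_natCard _ (Subgroup.mem_centralizer_singleton_iff.2 hc)
    rw [← card_centralizer_congr hz', card_centralizer_z] at h1
    have h2 : (orderOf n).Coprime 16 := by
      refine Nat.Coprime.pow_right 4 (Nat.coprime_two_right.2 ?_)
      exact hNodd.of_dvd_nat (Subgroup.orderOf_dvd_natCard N hn)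
    exact orderOf_eq_one_iff.1 (Nat.eq_one_of_dvd_coprimes h2 dvd_rfl h1)
  have hinv : ∀ z' : G, IsConj (D.φ zK) z' → z' * z' = 1 → ∀ n ∈ N, z' * n * z' = n⁻¹ := by
    intro z' hz' hzz n hn
    haveI : Finite N := inferInstance
    let f : N → N := fun m => ⟨(m : G)⁻¹ * (z' * m * z'), N.mul_mem (N.inv_mem m.2) (by
      have := hN.conj_mem (m : G) m.2 z'
      rwa [inv_eq_of_mul_eq_one_right hzz] at this)⟩
    have hinj : Function.Injective f := by
      intro m m' e
      have e' : (m : G)⁻¹ * (z' * m * z') = (m' : G)⁻¹ * (z' * m' * z') := congrArg Subtype.val e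
      have hm : (m' : G) * (m : G)⁻¹ = 1 := by
        refine hfree z' hz' _ (N.mul_mem m'.2 (N.inv_mem m.2)) ?_
        calc (m' : G) * (m : G)⁻¹ * z' = m' * ((m : G)⁻¹ * (z' * m * z')) * (z'⁻¹ * (m : G)⁻¹) := by group
          _ = m' * ((m' : G)⁻¹ * (z' * m' * z')) * (z'⁻¹ * (m : G)⁻¹) := by rw [e']
          _ = z' * ((m' : G) * (m : G)⁻¹) := by group
      exact (Subtype.ext (mul_inv_eq_one.1 hm)).symm
    obtain ⟨m, hm⟩ := (Finite.injective_iff_surjective.1 hinj) ⟨n, hn⟩
    have hm' : (m : G)⁻¹ * (z' * m * z') = n := congrArg Subtype.val hm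
    rw [← hm', mul_inv_rev, mul_inv_rev, mul_inv_rev, inv_inv, inv_eq_of_mul_eq_one_right hzz]
    calc z' * ((m : G)⁻¹ * (z' * m * z')) * z' = z' * (m : G)⁻¹ * z' * m * (z' * z') := by group
      _ = z' * ((m : G)⁻¹ * z') * m := by rw [hzz]; group
  have hbot : ∀ n ∈ N, n = 1 := by
    intro n hn
    have hb : IsConj (D.φ zK) (D.φ (1, b0)) := by
      refine (conj_phi D (1, swap 1 2) zK).symm.trans ?_
      rw [small_facts.2.2.2.2.2.2.2.2.1]
    have hbz : IsConj (D.φ zK) (D.φ ((1, b0) * zK)) := by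
      refine (conj_phi D (1, swap 1 3) zK).symm.trans ?_
      rw [small_facts.2.2.2.2.2.2.2.2.2]
    have e1 := hinv _ (IsConj.refl _) (by rw [← map_mul, small_facts.2.1, map_one]) n hn
    have e2 := hinv _ hb (by rw [← map_mul, small_facts.2.2.2.2.2.1, map_one]) n⁻¹
      (N.inv_mem hn)
    have e3 := hinv _ hbz (by rw [← map_mul, small_facts.2.2.2.2.2.2.1,
      map_one]) n hn
    rw [inv_inv] at e2
    have e4 : D.φ ((1, b0) * zK) * n * D.φ ((1, b0) * zK) = n := by
      calc D.φ ((1, b0) * zK) * n * D.φ ((1, b0) * zK)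
          = D.φ ((1, b0) * zK) * n * D.φ (zK * (1, b0)) := by
            rw [small_facts.2.2.2.2.2.2.2.1]
        _ = D.φ (1, b0) * (D.φ zK * n * D.φ zK) * D.φ (1, b0) := by rw [map_mul, map_mul]; group
        _ = n := by rw [e1, e2]
    rw [e4] at e3
    have hsq : n ^ 2 = 1 := by
      calc n ^ 2 = n * n := pow_two n
        _ = n * n⁻¹ := by rw [← e3]
        _ = 1 := mul_inv_cancel n
    have h1 := orderOf_dvd_of_pow_eq_one hsq
    have h2 : Odd (orderOf n) := hNodd.of_dvd_nat (Subgroup.orderOf_dvd_natCard N hn)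
    rcases (Nat.dvd_prime Nat.prime_two).1 h1 with h | h
    · exact orderOf_eq_one_iff.1 h
    · rw [h] at h2; exact absurd h2 (by decide)
  intro g
  exact (mul_inv_eq_one.1 (by
    have := hbot _ (hNc g)
    calc D.φ τ * g * (g * D.φ τ)⁻¹ = D.φ τ * g * (D.φ τ)⁻¹ * g⁻¹ := by group
      _ = 1 := this)).symm

end CfsgLib.SixByInvolution
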