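import Cfsg.Agent.SixByInvolution.Basic
import Cfsg.Agent.S0213

/-!
The fused case: classes of involutions and the centralizer of the product `tz`.
-/

set_option autoImplicit false

namespace CfsgLib.SixByInvolution

open Equiv Equiv.Perm

universe u

def a1K : K := (1, a1)
def bK : K := (1, b0)

/-- The elementary subgroup of the transposition type. -/
def E : Subgroup K where
  carrier := {x | x.2 = 1 ∨ x.2 = a0 ∨ x.2 = a1 ∨ x.2 = z0}
  one_mem' := Or.inl rfl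
  mul_mem' := by
    intro x y hx hy
    revert hx hy
    revert x y
    decide +kernel
  inv_mem' := by
    intro x hx
    revert hx
    revert x
    decide +kernel

theorem E_gen : ∀ x : K, x.2 = 1 ∨ x.2 = a0 ∨ x.2 = a1 ∨ x.2 = z0 →
    ∃ i j l : Fin 2, x = τ ^ (i : ℕ) * aK ^ (j : ℕ) * a1K ^ (l : ℕ) := by
  decide +kernel

theorem E_list : ∀ x : K, x.2 = 1 ∨ x.2 = a0 ∨ x.2 = a1 ∨ x.2 = z0 →
    x = 1 ∨ x = τ ∨ x = aK ∨ x = a1K ∨ x = zK ∨ x = τ * aK ∨ x = τ * a1K ∨ x = uK := by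
  decide +kernel

theorem E_mem : (τ.2 = 1) ∧ (aK.2 = a0) ∧ (a1K.2 = a1) ∧ (zK.2 = z0) ∧ (uK.2 = z0) ∧ τ * aK * a1K = uK := by
  decide +kernel

set_option synthInstance.maxSize 2000 in
set_option synthInstance.maxHeartbeats 100000 in
theorem conj_into_E : ∀ p q : K, p * p = 1 → q * q = 1 → p * q = q * p → Perm.sign p.2 = -1 →
    ∃ k : K, ((k * p * k⁻¹).2 = 1 ∨ (k * p * k⁻¹).2 = a0 ∨ (k * p * k⁻¹).2 = a1 ∨ (k * p * k⁻¹).2 = z0) ∧
      ((k * q * k⁻¹).2 = 1 ∨ (k * q * k⁻¹).2 = a0 ∨ (k * q * k⁻¹).2 = a1 ∨ (k * q * k⁻¹).2 = z0) := by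
  decide +kernel

set_option synthInstance.maxSize 2000 in
set_option synthInstance.maxHeartbeats 100000 in
theorem v4_case : ∀ p : K, p * p = 1 → p ≠ 1 → Perm.sign p.2 ≠ -1 →
    p = τ ∨ ∃ k : K, k * p * k⁻¹ = zK ∨ k * p * k⁻¹ = uK := by
  decide +kernel

theorem cls_conj_inv : ∀ k x : K, cls (k * x * k⁻¹) = cls x := by decide +kernel

theorem cls_values : cls τ = 1 ∧ cls aK = 1 ∧ cls (τ * aK) = 2 ∧ cls zK = 2 ∧ cls uK = 3 ∧ cls a1K = 1 ∧ cls bK = 2 ∧
    cls (bK * uK) = 3 := by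
  decide +kernel

theorem cls_zero : ∀ x : K, (x * x ≠ 1 ∨ x = 1) → cls x = 0 := by decide +kernel

theorem basic_facts : τ * τ = 1 ∧ aK * aK = 1 ∧ a1K * a1K = 1 ∧ aK * τ = τ * aK ∧ aK * a1K = a1K * aK ∧
    τ * a1K = a1K * τ ∧ aK ≠ τ ∧ bK * aK * bK⁻¹ = a1K ∧ bK * (τ * aK) * bK⁻¹ = τ * a1K ∧ uK * uK = 1 ∧
    (1, swap 1 2) * zK * ((1, swap 1 2) : K)⁻¹ = bK := by
  decide +kernel

theorem uK_central_iff : ∀ k : K, k * uK = uK * k ↔ k * zK = zK * k := by decide +kernel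

variable {G : Type u} [Group G] [Finite G] (D : Data G)

omit [Finite G] in
theorem sq_of_conj {x : K} {y : G} (h : IsConj y (D.φ x)) (hy : y * y = 1) : x * x = 1 := by
  obtain ⟨c, hc⟩ := isConj_iff.1 h
  apply D.inj
  rw [map_mul, map_one, ← hc]
  calc c * y * c⁻¹ * (c * y * c⁻¹) = c * (y * y) * c⁻¹ := by group
    _ = 1 := by rw [hy, mul_one, mul_inv_cancel]

theorem exists_fusion (hfus : IsConj (D.φ τ) (D.φ aK)) :
    (∃ h : G, h * D.φ uK * h⁻¹ = D.φ uK ∧ h * D.φ aK * h⁻¹ = D.φ τ) ∧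
      IsConj (D.φ zK) (D.φ (τ * aK)) := by
  obtain ⟨c, hc⟩ := isConj_iff.1 hfus
  have hback : ∀ x : K, aK * x = x * aK → ∃ p : K, D.φ p = c⁻¹ * D.φ x * c := by
    intro x hx
    refine D.range _ ?_
    have e : D.φ τ = c⁻¹ * D.φ aK * c := by rw [← hc]; group
    calc c⁻¹ * D.φ x * c * D.φ τ = c⁻¹ * (D.φ x * D.φ aK) * c := by rw [e]; group
      _ = c⁻¹ * (D.φ aK * D.φ x) * c := by rw [(phi_commute D).2 hx]
      _ = D.φ τ * (c⁻¹ * D.φ x * c) := by rw [e]; group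
  obtain ⟨p, hp⟩ := hback τ basic_facts.2.2.2.1
  obtain ⟨q, hq⟩ := hback a1K basic_facts.2.2.2.2.1
  have hsq : ∀ {x y : K}, y * y = 1 → D.φ x = c⁻¹ * D.φ y * c → x * x = 1 := by
    intro x y hy he
    refine sq_of_conj D (y := D.φ y) ?_ (by rw [← map_mul, hy, map_one])
    exact isConj_iff.2 ⟨c⁻¹, by rw [inv_inv, he]⟩
  have hp2 := hsq basic_facts.1 hp
  have hq2 := hsq basic_facts.2.2.1 hq
  have hpq : p * q = q * p := by
    refine (phi_commute D).1 ?_
    rw [hp, hq]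
    calc c⁻¹ * D.φ τ * c * (c⁻¹ * D.φ a1K * c) = c⁻¹ * (D.φ τ * D.φ a1K) * c := by group
      _ = c⁻¹ * (D.φ a1K * D.φ τ) * c := by rw [(phi_commute D).2 basic_facts.2.2.2.2.2.1]
      _ = _ := by group
  have hpt : IsConj (D.φ τ) (D.φ p) := isConj_iff.2 ⟨c⁻¹, by rw [inv_inv, hp]⟩
  have hpτ : p ≠ τ := by
    rintro rfl
    apply basic_facts.2.2.2.2.2.2.1
    apply D.inj
    calc D.φ aK = c * D.φ τ * c⁻¹ := hc.symm
      _ = c * (c⁻¹ * D.φ τ * c) * c⁻¹ := by rw [← hp]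
      _ = D.φ τ := by group
  have hp1 : p ≠ 1 := by
    rintro rfl
    rw [map_one, isConj_one_left] at hpt
    exact small_facts.2.2.2.1 (D.inj (hpt.trans D.φ.map_one.symm))
  have hsign : Perm.sign p.2 = -1 := by
    by_contra hs
    rcases v4_case p hp2 hp1 hs with e | ⟨k, e | e⟩
    · exact hpτ e
    · exact not_conj_tz D (hpt.trans (e ▸ (conj_phi D k p).symm))
    · exact not_conj_tu D (hpt.trans (e ▸ (conj_phi D k p).symm))
  obtain ⟨k, hk1, hk2⟩ := conj_into_E p q hp2 hq2 hpq hsign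
  set h := D.φ k * c⁻¹ with hh
  have hconj : ∀ x : G, h * x * h⁻¹ = D.φ k * (c⁻¹ * x * c) * (D.φ k)⁻¹ := fun x => by rw [hh]; group
  have hha : h * D.φ aK * h⁻¹ = D.φ τ := by
    rw [hconj, show c⁻¹ * D.φ aK * c = D.φ τ by rw [← hc]; group, ← map_inv, ← map_mul, ← map_mul,
      ← central_tau k, mul_inv_cancel_right]
  have hle : E ≤ (E.map D.φ).comap ((MulAut.conj h).toMonoidHom.comp D.φ) := by
    intro x hx
    obtain ⟨i, j, l, rfl⟩ := E_gen x hx
    refine Subgroup.mul_mem _ (Subgroup.mul_mem _ (Subgroup.pow_mem _ ?_ _) (Subgroup.pow_mem _ ?_ _))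
      (Subgroup.pow_mem _ ?_ _) <;> rw [Subgroup.mem_comap] <;> show h * _ * h⁻¹ ∈ _
    · rw [hconj, ← hp, ← map_inv, ← map_mul, ← map_mul]
      exact Subgroup.mem_map_of_mem _ hk1
    · rw [hha]
      exact Subgroup.mem_map_of_mem _ (Or.inl E_mem.1)
    · rw [hconj, ← hq, ← map_inv, ← map_mul, ← map_mul]
      exact Subgroup.mem_map_of_mem _ hk2
  have himg : ∀ x : K, x ∈ E → ∃ y : K, y ∈ E ∧ h * D.φ x * h⁻¹ = D.φ y := by
    intro x hx
    obtain ⟨y, hy, e⟩ := hle hx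
    exact ⟨y, hy, e.symm⟩
  have hta : IsConj (D.φ zK) (D.φ (τ * aK)) := by
    obtain ⟨y, hy, he⟩ := himg zK (Or.inr (Or.inr (Or.inr E_mem.2.2.2.1)))
    have hzy : IsConj (D.φ zK) (D.φ y) := isConj_iff.2 ⟨h, he⟩
    have hat : IsConj (D.φ aK) (D.φ a1K) := by
      rw [← basic_facts.2.2.2.2.2.2.2.1]; exact (conj_phi D bK aK).symm
    rcases E_list y hy with rfl | rfl | rfl | rfl | rfl | rfl | rfl | rfl
    · rw [map_one, isConj_one_left] at hzy
      exact absurd (D.inj (hzy.trans D.φ.map_one.symm)) small_facts.2.2.2.2.1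
    · exact absurd hzy.symm (not_conj_tz D)
    · exact absurd (hfus.trans hzy.symm) (not_conj_tz D)
    · exact absurd ((hfus.trans hat).trans hzy.symm) (not_conj_tz D)
    · exfalso
      obtain ⟨m, -, hm⟩ := (mem_T0 D).1 ((cz D h).1 (mul_inv_eq_iff_eq_mul.1 he))
      rw [← hm, ← map_inv, ← map_mul, ← map_mul] at hha
      apply basic_facts.2.2.2.2.2.2.1
      calc aK = m⁻¹ * (m * aK * m⁻¹) * m := by group
        _ = τ := by rw [D.inj hha, mul_assoc, central_tau, inv_mul_cancel_left]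
    · exact hzy
    · refine hzy.trans ?_
      rw [← basic_facts.2.2.2.2.2.2.2.2.1]; exact conj_phi D bK (τ * aK)
    · exact absurd hzy (not_conj_zu D)
  refine ⟨⟨h, ?_, hha⟩, hta⟩
  obtain ⟨y, hy, he⟩ := himg uK (Or.inr (Or.inr (Or.inr E_mem.2.2.2.2.1)))
  have huy : IsConj (D.φ uK) (D.φ y) := isConj_iff.2 ⟨h, he⟩
  have hat : IsConj (D.φ aK) (D.φ a1K) := by
    rw [← basic_facts.2.2.2.2.2.2.2.1]; exact (conj_phi D bK aK).symm
  rcases E_list y hy with rfl | rfl | rfl | rfl | rfl | rfl | rfl | rfl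
  · rw [map_one, isConj_one_left] at huy
    exact absurd (D.inj (huy.trans D.φ.map_one.symm)) (by decide +kernel)
  · exact absurd huy.symm (not_conj_tu D)
  · exact absurd (hfus.trans huy.symm) (not_conj_tu D)
  · exact absurd ((hfus.trans hat).trans huy.symm) (not_conj_tu D)
  · exact absurd huy.symm (not_conj_zu D)
  · exact absurd (hta.trans huy.symm) (not_conj_zu D)
  · refine absurd ((hta.trans ?_).trans huy.symm) (not_conj_zu D)
    rw [← basic_facts.2.2.2.2.2.2.2.2.1]; exact (conj_phi D bK (τ * aK)).symm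
  · exact he

/-- The representative of a class. -/
def rep : ℕ → K
  | 1 => τ
  | 2 => zK
  | _ => uK

variable (hfus : IsConj (D.φ τ) (D.φ aK))

include hfus

theorem conj_rep (x : K) (h2 : x * x = 1) (h1 : x ≠ 1) :
    IsConj (D.φ (rep (cls x))) (D.φ x) ∧ (cls x = 1 ∨ cls x = 2 ∨ cls x = 3) := by
  obtain ⟨hc1, hc2, hc3, hc4, hc5, -⟩ := cls_values
  obtain ⟨k, e | e | e | e | e⟩ := reps x h2 h1 <;>
    have hk := conj_phi D k x <;> have hcl := cls_conj_inv k x <;> rw [e] at hk hcl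
  · rw [← hcl, hc1]; exact ⟨hk, Or.inl rfl⟩
  · rw [← hcl, hc2]; exact ⟨hfus.trans hk, Or.inl rfl⟩
  · rw [← hcl, hc3]; exact ⟨(exists_fusion D hfus).2.trans hk, Or.inr (Or.inl rfl)⟩
  · rw [← hcl, hc4]; exact ⟨hk, Or.inr (Or.inl rfl)⟩
  · rw [← hcl, hc5]; exact ⟨hk, Or.inr (Or.inr rfl)⟩

theorem conj_iff (i : ℕ) (hi : i = 1 ∨ i = 2 ∨ i = 3) (x : K) :
    IsConj (D.φ (rep i)) (D.φ x) ↔ cls x = i := by
  have hrep : rep i * rep i = 1 ∧ rep i ≠ 1 := by
    rcases hi with rfl | rfl | rfl <;> decide +kernel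
  constructor
  · intro h
    have h2 : x * x = 1 := sq_of_conj D h (by rw [← map_mul, hrep.1, map_one])
    have h1 : x ≠ 1 := by
      rintro rfl
      rw [map_one, isConj_one_left] at h
      exact hrep.2 (D.inj (h.trans D.φ.map_one.symm))
    obtain ⟨hx, hj⟩ := conj_rep D hfus x h2 h1
    have hij := h.trans hx.symm
    rcases hi with rfl | rfl | rfl <;> rcases hj with e | e | e <;> rw [e] at hij ⊢ <;>
      first
        | exact absurd hij (not_conj_tz D)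
        | exact absurd hij.symm (not_conj_tz D)
        | exact absurd hij (not_conj_tu D)
        | exact absurd hij.symm (not_conj_tu D)
        | exact absurd hij (not_conj_zu D)
        | exact absurd hij.symm (not_conj_zu D)
  · intro h
    have h21 : x * x = 1 ∧ x ≠ 1 := by
      by_contra hn
      rw [not_and_or, ne_eq, not_not] at hn
      rw [cls_zero x hn] at h
      omega
    have := (conj_rep D hfus x h21.1 h21.2).1
    rwa [h] at this

theorem exists_T0_conj {x y : G} (hx : x * x = 1) (hy : y * y = 1) (hxy : x * y = y * x) :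
    ∃ (c : G) (m n : K), m * zK = zK * m ∧ n * zK = zK * n ∧ c * x * c⁻¹ = D.φ m ∧ c * y * c⁻¹ = D.φ n := by
  haveI := Fact.mk Nat.prime_two
  obtain ⟨S, hS⟩ := exists_T D
  let V : Subgroup G := Subgroup.closure {x, y}
  haveI : IsMulCommutative V := Subgroup.isMulCommutative_closure (by
    intro p hp q hq
    simp only [Set.mem_insert_iff, Set.mem_singleton_iff] at hp hq
    rcases hp with rfl | rfl <;> rcases hq with rfl | rfl <;> simp [hxy])
  have hV : IsPGroup 2 V := by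
    intro v
    refine ⟨1, ?_⟩
    apply Subtype.ext
    obtain ⟨v, hv⟩ := v
    show v ^ 2 = 1
    refine Subgroup.closure_induction (p := fun v _ => v ^ 2 = 1) ?_ (one_pow _) ?_ ?_ hv
    · rintro v (rfl | rfl) <;> rw [pow_two] <;> assumption
    · intro p q hp hq ep eq
      have hc : Commute p q := congrArg Subtype.val (mul_comm' (⟨p, hp⟩ : V) ⟨q, hq⟩)
      rw [hc.mul_pow, ep, eq, one_mul]
    · intro p _ ep; rw [inv_pow, ep, inv_one]
  obtain ⟨R, hR⟩ := hV.exists_le_sylow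
  obtain ⟨c, hc⟩ := MulAction.exists_smul_eq G R S
  have hmem : ∀ v ∈ (R : Subgroup G), c * v * c⁻¹ ∈ D.T0 := by
    intro v hv
    rw [← hS, ← hc, Sylow.coe_subgroup_smul]
    exact ⟨v, hv, rfl⟩
  obtain ⟨m, hm, em⟩ := (mem_T0 D).1 (hmem x (hR (Subgroup.subset_closure (by simp))))
  obtain ⟨n, hn, en⟩ := (mem_T0 D).1 (hmem y (hR (Subgroup.subset_closure (by simp))))
  exact ⟨c, m, n, hm, hn, em.symm, en.symm⟩

theorem involution_class {g : G} (hg : orderOf g = 2) :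
    IsConj (D.φ τ) g ∨ IsConj (D.φ zK) g ∨ IsConj (D.φ uK) g := by
  have h2 : g * g = 1 := by rw [← pow_two, ← hg, pow_orderOf_eq_one]
  obtain ⟨c, m, -, -, -, hm, -⟩ := exists_T0_conj D hfus h2 h2 rfl
  have hcm : IsConj g (D.φ m) := isConj_iff.2 ⟨c, hm⟩
  have hm1 : m ≠ 1 := by
    rintro rfl
    rw [map_one, isConj_one_left] at hcm
    simp [hcm] at hg
  obtain ⟨h, e | e | e⟩ := conj_rep D hfus m (sq_of_conj D hcm h2) hm1 <;> rw [e] at h
  · exact Or.inl (h.trans hcm.symm)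
  · exact Or.inr (Or.inl (h.trans hcm.symm))
  · exact Or.inr (Or.inr (h.trans hcm.symm))

theorem m_uK : ∀ m : K, cls m = 3 → ∃ k : K, k * m * k⁻¹ = uK := by
  clear hfus
  decide +kernel

/-- An involution commuting with `tz` is moved into the standard Sylow subgroup by the centralizer of `tz`. -/
theorem exists_conj_in_H {x : G} (hx : x * x = 1) (hxu : x * D.φ uK = D.φ uK * x) :
    ∃ (c : G) (m : K), c * D.φ uK = D.φ uK * c ∧ m * zK = zK * m ∧ c * x * c⁻¹ = D.φ m := by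
  have huu : D.φ uK * D.φ uK = 1 := by rw [← map_mul, basic_facts.2.2.2.2.2.2.2.2.2.1, map_one]
  obtain ⟨c, m, n, -, -, hm, hn⟩ := exists_T0_conj D hfus hx huu hxu
  have hn3 : cls n = 3 := (conj_iff D hfus 3 (Or.inr (Or.inr rfl)) n).1 (isConj_iff.2 ⟨c, hn⟩)
  obtain ⟨k, hk⟩ := m_uK D hfus n hn3
  have hu' : D.φ k * c * D.φ uK * (D.φ k * c)⁻¹ = D.φ uK := by
    calc D.φ k * c * D.φ uK * (D.φ k * c)⁻¹ = D.φ k * (c * D.φ uK * c⁻¹) * (D.φ k)⁻¹ := by group
      _ = D.φ uK := by rw [hn, ← map_inv, ← map_mul, ← map_mul, hk]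
  have hx' : D.φ k * c * x * (D.φ k * c)⁻¹ = D.φ (k * m * k⁻¹) := by
    calc D.φ k * c * x * (D.φ k * c)⁻¹ = D.φ k * (c * x * c⁻¹) * (D.φ k)⁻¹ := by group
      _ = _ := by rw [hm, ← map_inv, ← map_mul, ← map_mul]
  refine ⟨D.φ k * c, k * m * k⁻¹, mul_inv_eq_iff_eq_mul.1 hu', ?_, hx'⟩
  refine (uK_central_iff _).1 ((phi_commute D).1 ?_)
  have h1 := congrArg (fun v => D.φ k * c * v * (D.φ k * c)⁻¹) hxu
  calc D.φ (k * m * k⁻¹) * D.φ uK
      = D.φ k * c * (x * D.φ uK) * (D.φ k * c)⁻¹ := by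
        conv_lhs => rw [← hx', ← hu']
        group
    _ = D.φ k * c * (D.φ uK * x) * (D.φ k * c)⁻¹ := h1
    _ = D.φ uK * D.φ (k * m * k⁻¹) := by
        conv_rhs => rw [← hx', ← hu']
        group

end CfsgLib.SixByInvolution
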